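import Mathlib

/-!
# Algebra core for S13746: an integral, birational-after-inverting-ϖ extension of a ring with
reduced quotient mod ϖ is trivial.
-/

namespace Groth.Agent.H8.SemiFact

theorem surjective_of_integral {A B : Type*} [CommRing A] [CommRing B] (θ : A →+* B) (ϖ : A)
    (hB : ∀ b : B, θ ϖ * b = 0 → b = 0)
    (hred : IsReduced (A ⧸ Ideal.span {ϖ}))
    (hinj : Function.Injective θ)
    (hint : θ.IsIntegral)
    (hloc : ∀ b : B, ∃ (n : ℕ) (a : A), b * θ ϖ ^ n = θ a) :
    Function.Surjective θ := by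
  have key : ∀ (b' : B) (a : A), θ ϖ * b' = θ a → ∃ a' : A, a = ϖ * a' := by
    intro b' a hba
    obtain ⟨p, hpm, hpr⟩ := hint b'
    have h1 : Polynomial.eval₂ θ (θ ϖ * b') (Polynomial.scaleRoots p ϖ) = 0 :=
      Polynomial.scaleRoots_eval₂_eq_zero θ hpr
    rw [hba, Polynomial.eval₂_at_apply] at h1
    have h2 : Polynomial.eval a (Polynomial.scaleRoots p ϖ) = 0 :=
      hinj (h1.trans (map_zero θ).symm)
    have hd : Polynomial.eval a (Polynomial.scaleRoots p ϖ) =
        (∑ i ∈ Finset.range p.natDegree, p.coeff i * ϖ ^ (p.natDegree - i) * a ^ i) +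
          a ^ p.natDegree := by
      rw [Polynomial.eval_eq_sum_range, Polynomial.natDegree_scaleRoots, Finset.sum_range_succ]
      congr 1
      · apply Finset.sum_congr rfl
        intro i _
        rw [Polynomial.coeff_scaleRoots]
      · rw [Polynomial.coeff_scaleRoots, Nat.sub_self, pow_zero, mul_one, hpm.coeff_natDegree,
          one_mul]
    have hmem : a ^ p.natDegree ∈ Ideal.span {ϖ} := by
      have h3 : a ^ p.natDegree =
          - ∑ i ∈ Finset.range p.natDegree, p.coeff i * ϖ ^ (p.natDegree - i) * a ^ i := by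
        rw [hd] at h2
        exact eq_neg_of_add_eq_zero_right h2
      rw [h3]
      refine (Ideal.neg_mem_iff _).2 ?_
      apply Ideal.sum_mem
      intro i hi
      have hi' : 1 ≤ p.natDegree - i := by
        have := Finset.mem_range.1 hi
        omega
      obtain ⟨m, hm⟩ := Nat.exists_eq_add_of_le' hi'
      rw [hm, pow_succ, Ideal.mem_span_singleton']
      exact ⟨p.coeff i * ϖ ^ m * a ^ i, by ring⟩
    have h5 : Ideal.Quotient.mk (Ideal.span {ϖ}) a = 0 := by
      apply IsReduced.eq_zero
      exact ⟨p.natDegree, by rw [← map_pow, Ideal.Quotient.eq_zero_iff_mem]; exact hmem⟩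
    rw [Ideal.Quotient.eq_zero_iff_mem, Ideal.mem_span_singleton'] at h5
    obtain ⟨a', ha'⟩ := h5
    exact ⟨a', by rw [← ha', mul_comm]⟩
  have main : ∀ (n : ℕ) (b : B) (a : A), b * θ ϖ ^ n = θ a → ∃ a₀, θ a₀ = b := by
    intro n
    induction n with
    | zero =>
      intro b a h
      exact ⟨a, by rw [← h, pow_zero, mul_one]⟩
    | succ n ih =>
      intro b a h
      obtain ⟨a', ha'⟩ := key (b * θ ϖ ^ n) a (by rw [← h]; ring)
      apply ih b a'
      apply sub_eq_zero.1
      apply hB
      rw [mul_sub, ← map_mul, ← ha', ← h]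
      ring
  intro b
  obtain ⟨n, a, h⟩ := hloc b
  exact main n b a h

/-- for a DVR with uniformizer `ϖ`, the fraction field is the localization away from `ϖ` -/
theorem isLocalization_away_of_irreducible (R : Type*) [CommRing R] [IsDomain R]
    [IsDiscreteValuationRing R] {ϖ : R} (hϖ : Irreducible ϖ) (K : Type*) [CommRing K]
    [Algebra R K] [IsFractionRing R K] : IsLocalization.Away ϖ K := by
  haveI : IsLocalization (nonZeroDivisors R) (Localization.Away ϖ) := by
    refine IsLocalization.of_le_of_exists_dvd (M := Submonoid.powers ϖ) (nonZeroDivisors R) ?_ ?_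
    · exact Submonoid.powers_le.2 (mem_nonZeroDivisors_of_ne_zero hϖ.ne_zero)
    · intro n hn
      obtain ⟨k, hk⟩ := IsDiscreteValuationRing.associated_pow_irreducible
        (nonZeroDivisors.ne_zero hn) hϖ
      exact ⟨ϖ ^ k, ⟨k, rfl⟩, hk.dvd⟩
  exact IsLocalization.isLocalization_of_algEquiv (Submonoid.powers ϖ)
    (IsLocalization.algEquiv (nonZeroDivisors R) (Localization.Away ϖ) K)

end Groth.Agent.H8.SemiFact
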