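import Mathlib
import Groth.Prelude.Def_Neron
import Groth.Agent.Lib.Helper8.SemiFact.Alg
import Groth.Agent.Lib.Helper9.Misc.DVF4

/-!
# S13746: for a proper morphism `π : Y → X` of flat schemes over a DVR which is an isomorphism on
generic fibres, with reduced special fibre of `X`, the map `O_X → π_* O_Y` is an isomorphism.
-/

set_option linter.style.haveILetI false
set_option linter.unusedSectionVars false

universe u

open AlgebraicGeometry CategoryTheory CategoryTheory.Limits TopologicalSpace Opposite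

namespace Groth.Agent.H8.SemiFact

section El

variable {R : Type u} [CommRing R]

/-- image of `r : R` in the sections over `W` of an `R`-scheme -/
noncomputable def el {Z : Scheme.{u}} (h : Z ⟶ Spec (CommRingCat.of R)) (W : Z.Opens) (r : R) :
    Γ(Z, W) :=
  (h.appLE ⊤ W le_top).hom ((Scheme.ΓSpecIso (CommRingCat.of R)).inv.hom r)

lemma el_res {Z : Scheme.{u}} (h : Z ⟶ Spec (CommRingCat.of R)) {W W' : Z.Opens} (i : W' ≤ W)
    (r : R) : (Z.presheaf.map (homOfLE i).op).hom (el h W r) = el h W' r := by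
  have h1 := Scheme.Hom.appLE_map h (U := ⊤) (show W ≤ h ⁻¹ᵁ ⊤ from le_top) (homOfLE i).op
  exact congrArg (fun k => k.hom ((Scheme.ΓSpecIso (CommRingCat.of R)).inv.hom r)) h1

lemma el_comp {X Y : Scheme.{u}} (π : Y ⟶ X) (h : X ⟶ Spec (CommRingCat.of R)) (V : X.Opens)
    (r : R) : (π.app V).hom (el h V r) = el (π ≫ h) (π ⁻¹ᵁ V) r := by
  have h1 := Scheme.Hom.appLE_comp_appLE π h ⊤ V (π ⁻¹ᵁ V) le_top le_rfl
  rw [Scheme.Hom.appLE_eq_app] at h1
  exact congrArg (fun k => k.hom ((Scheme.ΓSpecIso (CommRingCat.of R)).inv.hom r)) h1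

lemma basicOpen_el {Z : Scheme.{u}} (h : Z ⟶ Spec (CommRingCat.of R)) (W : Z.Opens) (r : R) :
    Z.basicOpen (el h W r) = W ⊓ h ⁻¹ᵁ (PrimeSpectrum.basicOpen r) := by
  have h1 := Scheme.basicOpen_appLE h W ⊤ le_top ((Scheme.ΓSpecIso (CommRingCat.of R)).inv.hom r)
  rw [basicOpen_eq_of_affine] at h1
  exact h1

lemma pow_regular {B : Type*} [CommRing B] (f : B) (hf : ∀ b : B, f * b = 0 → b = 0) (n : ℕ)
    (x : B) (hx : f ^ n * x = 0) : x = 0 := by
  induction n with
  | zero => simpa using hx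
  | succ n ih =>
    apply ih
    apply hf
    rw [← mul_assoc, ← pow_succ']
    exact hx

lemma el_regular_affine [IsDomain R] {Z : Scheme.{u}} (h : Z ⟶ Spec (CommRingCat.of R)) [Flat h]
    {r : R} (hr : r ≠ 0) (W : Z.Opens) (hW : IsAffineOpen W) (s : Γ(Z, W))
    (hs : el h W r * s = 0) : s = 0 := by
  have hfl : (h.appLE ⊤ W le_top).hom.Flat :=
    HasRingHomProperty.appLE @Flat h inferInstance ⟨⊤, isAffineOpen_top _⟩
      ⟨W, hW⟩ le_top
  set ρ : R →+* Γ(Z, W) :=
    (h.appLE ⊤ W le_top).hom.comp (Scheme.ΓSpecIso (CommRingCat.of R)).inv.hom with hρ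
  have hρfl : ρ.Flat := RingHom.Flat.comp (RingHom.Flat.of_bijective
    (ConcreteCategory.bijective_of_isIso (Scheme.ΓSpecIso (CommRingCat.of R)).inv)) hfl
  letI := ρ.toAlgebra
  haveI : Module.Flat R Γ(Z, W) := hρfl
  have hreg : IsSMulRegular Γ(Z, W) r :=
    Module.Flat.isSMulRegular_of_nonZeroDivisors (mem_nonZeroDivisors_of_ne_zero hr)
  have h2 : r • s = r • (0 : Γ(Z, W)) := by
    rw [smul_zero, Algebra.smul_def]
    exact hs
  exact hreg h2

lemma el_regular [IsDomain R] {Z : Scheme.{u}} (h : Z ⟶ Spec (CommRingCat.of R)) [Flat h]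
    {r : R} (hr : r ≠ 0) (W : Z.Opens) (s : Γ(Z, W)) (hs : el h W r * s = 0) : s = 0 := by
  apply TopCat.Presheaf.section_ext Z.sheaf W
  intro x hx
  obtain ⟨_, ⟨W', hW', rfl⟩, hxW', hW'W0⟩ :=
    Z.isBasis_affineOpens.exists_subset_of_mem_open hx W.2
  have hW'W : W' ≤ W := hW'W0
  replace hxW' : x ∈ W' := hxW'
  have h0 : (Z.presheaf.map (homOfLE hW'W).op).hom s = 0 := by
    apply el_regular_affine h hr W' hW'
    rw [← el_res h hW'W r, ← map_mul, hs, map_zero]
  show Z.presheaf.germ W x hx s = Z.presheaf.germ W x hx 0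
  rw [map_zero, ← Z.presheaf.germ_res_apply (homOfLE hW'W) x hxW' s]
  erw [h0]
  rw [map_zero]

end El

section Gen

lemma injective_of_affine {X Y : Scheme.{u}} (π : Y ⟶ X)
    (H : ∀ V : X.Opens, IsAffineOpen V → Function.Injective (π.app V).hom) (V : X.Opens) :
    Function.Injective (π.app V).hom := by
  rw [injective_iff_map_eq_zero]
  intro s hs
  apply TopCat.Presheaf.section_ext X.sheaf V
  intro x hx
  obtain ⟨_, ⟨V', hV', rfl⟩, hxV', hV'V0⟩ :=
    X.isBasis_affineOpens.exists_subset_of_mem_open hx V.2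
  have hV'V : V' ≤ V := hV'V0
  replace hxV' : x ∈ V' := hxV'
  have h0 : (X.presheaf.map (homOfLE hV'V).op).hom s = 0 := by
    apply (injective_iff_map_eq_zero _).1 (H V' hV')
    have h1 := Scheme.Hom.naturality π (homOfLE hV'V).op
    have h2 := congrArg (fun k => k.hom s) h1
    change (π.app V').hom ((X.presheaf.map (homOfLE hV'V).op).hom s) = _ at h2
    rw [h2]
    change (Y.presheaf.map _).hom ((π.app V).hom s) = 0
    rw [hs, map_zero]
  show X.presheaf.germ V x hx s = X.presheaf.germ V x hx 0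
  rw [map_zero, ← X.presheaf.germ_res_apply (homOfLE hV'V) x hxV' s]
  erw [h0]
  rw [map_zero]

lemma isIso_app_of_le {X Y X' Y' : Scheme.{u}} (π : Y ⟶ X) (jX : X' ⟶ X) (jY : Y' ⟶ Y)
    (π' : Y' ⟶ X') [IsOpenImmersion jX] [IsOpenImmersion jY] [IsIso π']
    (comm : π' ≫ jX = jY ≫ π) (W : X.Opens) (hW : W ≤ jX.opensRange)
    (hW' : π ⁻¹ᵁ W ≤ jY.opensRange) : IsIso (π.app W) := by
  have hEq : π' ⁻¹ᵁ jX ⁻¹ᵁ W = jY ⁻¹ᵁ π ⁻¹ᵁ W := by
    change (π' ≫ jX) ⁻¹ᵁ W = (jY ≫ π) ⁻¹ᵁ W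
    rw [comm]
  have h1 : jX.app W ≫ π'.app (jX ⁻¹ᵁ W) =
      (π.app W ≫ jY.app (π ⁻¹ᵁ W)) ≫ Y'.presheaf.map (eqToHom hEq).op :=
    Scheme.Hom.congr_app comm W
  haveI : IsIso (jX.app W) := Scheme.Hom.isIso_app jX W hW
  haveI : IsIso (jY.app (π ⁻¹ᵁ W)) := Scheme.Hom.isIso_app jY _ hW'
  have h2 : IsIso ((π.app W ≫ jY.app (π ⁻¹ᵁ W)) ≫ Y'.presheaf.map (eqToHom hEq).op) := by
    rw [← h1]; infer_instance
  have h3 : IsIso (π.app W ≫ jY.app (π ⁻¹ᵁ W)) :=
    IsIso.of_isIso_comp_right _ (Y'.presheaf.map (eqToHom hEq).op)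
  exact IsIso.of_isIso_comp_right (π.app W) (jY.app (π ⁻¹ᵁ W))

lemma isIntegral_app {X Y : Scheme.{u}} (π : Y ⟶ X) [IsProper π] (V : X.Opens)
    (hV : IsAffineOpen V) : (π.app V).hom.IsIntegral := by
  haveI : IsAffine V.toScheme := hV
  haveI : IsProper (π ∣_ V) := IsZariskiLocalAtTarget.restrict ‹_› V
  have h1 : (π ∣_ V).appTop.hom.IsIntegral := isIntegral_appTop_of_universallyClosed (π ∣_ V)
  rw [← Scheme.Hom.resLE_eq_morphismRestrict] at h1
  have h2 := (RingHom.isIntegral_respectsIso.arrow_mk_iso_iff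
    (arrowResLEAppIso π V (π ⁻¹ᵁ V) le_rfl)).1 h1
  rwa [Scheme.Hom.appLE_eq_app] at h2

end Gen

section Core

variable {R : Type u} [CommRing R] [IsDomain R] [IsDiscreteValuationRing R]

lemma quot_reduced {X : Scheme.{u}} (f : X ⟶ Spec (CommRingCat.of R)) {ϖ : R}
    (hϖ : Irreducible ϖ) (hred : IsReduced (f.fiber (IsLocalRing.closedPoint R)))
    (V : X.Opens) (hV : IsAffineOpen V) :
    _root_.IsReduced (Γ(X, V) ⧸ Ideal.span {el f V ϖ}) := by
  set φ : CommRingCat.of R ⟶ Γ(X, V) :=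
    (Scheme.ΓSpecIso (CommRingCat.of R)).inv ≫ f.appLE ⊤ V le_top with hφ
  have hφspec : Spec.map φ = hV.fromSpec ≫ f := by
    rw [hφ, Spec.map_comp, ← IsAffineOpen.SpecMap_appLE_fromSpec f (isAffineOpen_top _) hV le_top,
      IsAffineOpen.fromSpec_top, Scheme.isoSpec_Spec_inv]
  letI : Algebra R Γ(X, V) := φ.hom.toAlgebra
  have h1 : IsReduced ((hV.fromSpec ≫ f).fiber (IsLocalRing.closedPoint R)) := by
    haveI hredP : IsReduced (pullback f ((Spec (CommRingCat.of R)).fromSpecResidueField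
      (IsLocalRing.closedPoint R))) := hred
    have e1 : (hV.fromSpec ≫ f) ≫ 𝟙 (Spec (CommRingCat.of R)) = hV.fromSpec ≫ f :=
      Category.comp_id _
    have e2 : (Spec (CommRingCat.of R)).fromSpecResidueField (IsLocalRing.closedPoint R) ≫
        𝟙 (Spec (CommRingCat.of R)) = 𝟙 _ ≫
        (Spec (CommRingCat.of R)).fromSpecResidueField (IsLocalRing.closedPoint R) := by simp
    haveI : IsOpenImmersion hV.fromSpec := hV.isOpenImmersion_fromSpec
    have hoi := Scheme.pullback_map_isOpenImmersion (hV.fromSpec ≫ f)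
      ((Spec (CommRingCat.of R)).fromSpecResidueField (IsLocalRing.closedPoint R)) f
      ((Spec (CommRingCat.of R)).fromSpecResidueField (IsLocalRing.closedPoint R))
      hV.fromSpec (𝟙 _) (𝟙 _) e1 e2
    exact @isReduced_of_isOpenImmersion _ _ _ hoi hredP
  have h3 : hV.fromSpec ≫ f = Spec.map (CommRingCat.ofHom (algebraMap R Γ(X, V))) := by
    rw [← hφspec]
    rfl
  rw [h3] at h1
  have h4 : IsReduced (Spec (CommRingCat.of
      ((IsLocalRing.closedPoint R).asIdeal.Fiber Γ(X, V)))) := by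
    haveI : IsReduced ((Arrow.leftFunc).obj (Arrow.mk ((Spec.map (CommRingCat.ofHom
      (algebraMap R Γ(X, V)))).fiberToSpecResidueField (IsLocalRing.closedPoint R)))) := h1
    have hiso : IsIso (Arrow.leftFunc.mapIso
      (Spec.fiberToSpecResidueFieldIso R Γ(X, V) (IsLocalRing.closedPoint R))).inv :=
      inferInstance
    exact @isReduced_of_isOpenImmersion _ _ (Arrow.leftFunc.mapIso
      (Spec.fiberToSpecResidueFieldIso R Γ(X, V) (IsLocalRing.closedPoint R))).inv
      (@IsOpenImmersion.of_isIso _ _ _ hiso) this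
  have h5 : _root_.IsReduced ((IsLocalRing.maximalIdeal R).Fiber Γ(X, V)) :=
    (affine_isReduced_iff _).1 h4
  have h6 := Groth.Agent.H9.DVF.quot_reduced_of_fiber R Γ(X, V) h5
  have h7 : (IsLocalRing.maximalIdeal R).map (algebraMap R Γ(X, V)) =
      Ideal.span {el f V ϖ} := by
    rw [hϖ.maximalIdeal_eq, Ideal.map_span, Set.image_singleton]
    rfl
  rw [h7] at h6
  exact h6

theorem bijective_app_affine {X Y : Scheme.{u}} (hX : X ⟶ Spec (CommRingCat.of R)) (π : Y ⟶ X)
    {ϖ : R} (hϖ : Irreducible ϖ) [Flat hX] [Flat (π ≫ hX)] [IsProper π]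
    (hgen : ∀ W : X.Opens, W ≤ hX ⁻¹ᵁ (PrimeSpectrum.basicOpen ϖ) → IsIso (π.app W))
    (hred : IsReduced (hX.fiber (IsLocalRing.closedPoint R)))
    (V : X.Opens) (hV : IsAffineOpen V) : Function.Bijective (π.app V).hom := by
  have hWle : X.basicOpen (el hX V ϖ) ≤ hX ⁻¹ᵁ (PrimeSpectrum.basicOpen ϖ) := by
    rw [basicOpen_el]
    exact inf_le_right
  have hWV : X.basicOpen (el hX V ϖ) ≤ V := X.basicOpen_le _
  haveI hisoW : IsIso (π.app (X.basicOpen (el hX V ϖ))) := hgen _ hWle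
  have hbijW := ConcreteCategory.bijective_of_isIso (π.app (X.basicOpen (el hX V ϖ)))
  have hθe : (π.app V).hom (el hX V ϖ) = el (π ≫ hX) (π ⁻¹ᵁ V) ϖ := el_comp π hX V ϖ
  have hB : ∀ b : Γ(Y, π ⁻¹ᵁ V), (π.app V).hom (el hX V ϖ) * b = 0 → b = 0 := by
    rw [hθe]
    exact el_regular (π ≫ hX) hϖ.ne_zero _
  have hA : ∀ a : Γ(X, V), el hX V ϖ * a = 0 → a = 0 := el_regular hX hϖ.ne_zero _
  have hπW : π ⁻¹ᵁ X.basicOpen (el hX V ϖ) = Y.basicOpen ((π.app V).hom (el hX V ϖ)) :=
    Scheme.preimage_basicOpen π (el hX V ϖ)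
  have hle : π ⁻¹ᵁ X.basicOpen (el hX V ϖ) ≤ π ⁻¹ᵁ V := fun x hx => hWV hx
  have hcpt : IsCompact (π ⁻¹ᵁ V : Set Y) :=
    QuasiCompact.isCompact_preimage (f := π) _ V.2 hV.isCompact
  -- naturality of restriction
  have hnat : ∀ a : Γ(X, V), (π.app (X.basicOpen (el hX V ϖ))).hom
      ((X.presheaf.map (homOfLE hWV).op).hom a) =
      (Y.presheaf.map (homOfLE hle).op).hom ((π.app V).hom a) := by
    intro a
    have h1 := Scheme.Hom.naturality π (homOfLE hWV).op
    exact congrArg (fun k => k.hom a) h1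
  -- vanishing on the generic locus implies vanishing
  have hvan : ∀ x : Γ(Y, π ⁻¹ᵁ V), (Y.presheaf.map (homOfLE hle).op).hom x = 0 → x = 0 := by
    intro x hx
    have hle2 : Y.basicOpen ((π.app V).hom (el hX V ϖ)) ≤ π ⁻¹ᵁ X.basicOpen (el hX V ϖ) :=
      hπW.ge
    have hx2 : (Y.presheaf.map (homOfLE (Y.basicOpen_le ((π.app V).hom (el hX V ϖ)))).op).hom x
        = 0 := by
      have h2 : Y.presheaf.map (homOfLE (Y.basicOpen_le ((π.app V).hom (el hX V ϖ)))).op =
          Y.presheaf.map (homOfLE hle).op ≫ Y.presheaf.map (homOfLE hle2).op := by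
        rw [← Functor.map_comp]
        rfl
      rw [h2]
      change (Y.presheaf.map (homOfLE hle2).op).hom ((Y.presheaf.map (homOfLE hle).op).hom x) = 0
      rw [hx, map_zero]
    obtain ⟨n, hn⟩ := exists_pow_mul_eq_zero_of_res_basicOpen_eq_zero_of_isCompact Y hcpt x
      ((π.app V).hom (el hX V ϖ)) hx2
    exact pow_regular _ hB n x hn
  haveI hloc := hV.isLocalization_basicOpen (el hX V ϖ)
  have halg : ∀ a : Γ(X, V), algebraMap Γ(X, V) Γ(X, X.basicOpen (el hX V ϖ)) a =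
      (X.presheaf.map (homOfLE hWV).op).hom a := fun a => rfl
  -- injectivity
  have hinj : Function.Injective (π.app V).hom := by
    rw [injective_iff_map_eq_zero]
    intro a ha
    have h1 : (X.presheaf.map (homOfLE hWV).op).hom a = 0 := by
      apply (injective_iff_map_eq_zero _).1 hbijW.1
      rw [hnat, ha, map_zero]
    rw [← halg, IsLocalization.map_eq_zero_iff (Submonoid.powers (el hX V ϖ))] at h1
    obtain ⟨⟨_, k, rfl⟩, hk⟩ := h1
    exact pow_regular _ hA k a hk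
  refine ⟨hinj, ?_⟩
  apply surjective_of_integral (π.app V).hom (el hX V ϖ) hB (quot_reduced hX hϖ hred V hV) hinj
    (isIntegral_app π V hV)
  intro b
  obtain ⟨c, hc⟩ := hbijW.2 ((Y.presheaf.map (homOfLE hle).op).hom b)
  obtain ⟨n, a, hna⟩ := IsLocalization.Away.surj (el hX V ϖ) c
  refine ⟨n, a, ?_⟩
  apply sub_eq_zero.1
  apply hvan
  rw [map_sub, map_mul, map_pow, ← hnat, ← hnat, ← halg, ← halg, ← hna, map_mul, map_pow, hc,
    sub_self]

theorem main {X Y : Scheme.{u}} (hX : X ⟶ Spec (CommRingCat.of R)) (π : Y ⟶ X)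
    {ϖ : R} (hϖ : Irreducible ϖ) [Flat hX] [Flat (π ≫ hX)] [IsProper π]
    {X' Y' : Scheme.{u}} (jX : X' ⟶ X) (jY : Y' ⟶ Y) (π' : Y' ⟶ X')
    [IsOpenImmersion jX] [IsOpenImmersion jY] [IsIso π'] (comm : π' ≫ jX = jY ≫ π)
    (hrX : Set.range jX = hX ⁻¹' (PrimeSpectrum.basicOpen ϖ : Set (PrimeSpectrum R)))
    (hrY : Set.range jY = (π ≫ hX) ⁻¹' (PrimeSpectrum.basicOpen ϖ : Set (PrimeSpectrum R)))
    (hred : IsReduced (hX.fiber (IsLocalRing.closedPoint R)))
    (V : X.Opens) : IsIso (π.app V) := by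
  have hgen' : ∀ W : X.Opens, W ≤ hX ⁻¹ᵁ (PrimeSpectrum.basicOpen ϖ) → IsIso (π.app W) := by
    intro W hW
    apply isIso_app_of_le π jX jY π' comm W
    · intro x hx
      show x ∈ Set.range jX
      rw [hrX]
      exact hW hx
    · intro y hy
      show y ∈ Set.range jY
      rw [hrY]
      exact hW hy
  have Haff : ∀ V : X.Opens, IsAffineOpen V → Function.Bijective (π.app V).hom :=
    fun V hV => bijective_app_affine hX π hϖ hgen' hred V hV
  have Hinj : ∀ V : X.Opens, Function.Injective (π.app V).hom :=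
    injective_of_affine π (fun V hV => (Haff V hV).1)
  let F : TopCat.Sheaf CommRingCat X := X.sheaf
  let G : TopCat.Sheaf CommRingCat X := (TopCat.Sheaf.pushforward CommRingCat π.base).obj Y.sheaf
  let c : F ⟶ G := ⟨π.c⟩
  have hsurj : Function.Surjective (c.1.app (op V)) := by
    apply TopCat.Presheaf.app_surjective_of_injective_of_locally_surjective c V
    · intro x _
      exact TopCat.Presheaf.stalkFunctor_map_injective_of_app_injective (fun U => Hinj U) x
    · intro t x hx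
      obtain ⟨_, ⟨V', hV', rfl⟩, hxV', hV'V0⟩ :=
        X.isBasis_affineOpens.exists_subset_of_mem_open hx V.2
      have hV'V : V' ≤ V := hV'V0
      obtain ⟨s, hs⟩ := (Haff V' hV').2 (G.1.map (homOfLE hV'V).op t)
      exact ⟨V', hxV', homOfLE hV'V, s, hs⟩
  have hbij : Function.Bijective (π.app V).hom := ⟨Hinj V, hsurj⟩
  exact (ConcreteCategory.isIso_iff_bijective (π.app V)).2 hbij

theorem main_over (X Y : Over (Spec (CommRingCat.of R))) [Flat X.hom] [Flat Y.hom]
    (π : Y ⟶ X) [IsProper π.left]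
    (hgen : IsIso ((Neron.genericFibre R).map π))
    [hred : IsReduced (X.hom.fiber (IsLocalRing.closedPoint R))] :
    ∀ V : X.left.Opens, IsIso (π.left.app V) := by
  intro V
  obtain ⟨ϖ, hϖ⟩ := IsDiscreteValuationRing.exists_irreducible R
  haveI : Flat (π.left ≫ X.hom) := by rw [Over.w π]; infer_instance
  haveI := isLocalization_away_of_irreducible R hϖ (FractionRing R)
  haveI : IsOpenImmersion (Neron.genPt R) := IsOpenImmersion.of_isLocalization ϖ
  have hrange : Set.range (Neron.genPt R) =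
      (PrimeSpectrum.basicOpen ϖ : Set (PrimeSpectrum R)) :=
    PrimeSpectrum.localization_away_comap_range (FractionRing R) ϖ
  haveI : IsIso ((Neron.genericFibre R).map π).left :=
    (inferInstance : IsIso ((Over.forget _).map ((Neron.genericFibre R).map π)))
  refine main X.hom π.left hϖ (pullback.fst X.hom (Neron.genPt R))
    (pullback.fst Y.hom (Neron.genPt R)) ((Neron.genericFibre R).map π).left ?_ ?_ ?_ hred V
  · simp only [Over.pullback_map_left]
    exact pullback.lift_fst _ _ _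
  · rw [Scheme.Pullback.range_fst, hrange]
  · rw [Scheme.Pullback.range_fst, hrange, Over.w π]

end Core

end Groth.Agent.H8.SemiFact
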